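import Groth.Agent.AlgSt.K744.IsomFp

/-!
# Products in a category fibred in groupoids and 2-fibre products of slices
-/

set_option autoImplicit false
set_option backward.isDefEq.respectTransparency false
set_option backward.isDefEq.respectTransparency.types false

universe v₂ u₂ v u

open CategoryTheory CategoryTheory.Limits

namespace K744.ArtD

open K744.IsomFp

variable {C : Type u} [Category.{v} C] {𝒳 : BasedCategory.{v₂, u₂} C}

/-- `w` with `p`, `q` is a product of `ξ` and `η`. -/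
def IsProd {ξ η w : 𝒳.obj} (p : w ⟶ ξ) (q : w ⟶ η) : Prop :=
  ∀ (z : 𝒳.obj) (a : z ⟶ ξ) (b : z ⟶ η), ∃! c : z ⟶ w, c ≫ p = a ∧ c ≫ q = b

theorem lift_unique {𝒴 : Type u₂} [Category.{v₂} 𝒴] (p : 𝒴 ⥤ C) {R T : C} (f f' : R ⟶ T) {a b : 𝒴} (φ : a ⟶ b)
    (h : p.IsHomLift f φ) (h' : p.IsHomLift f' φ) : f = f' := by
  have e := (IsHomLift.fac' p f φ).symm.trans (IsHomLift.fac' p f' φ)
  exact (cancel_mono _).1 ((cancel_epi _).1 e)

/-- the universal object of a functor from a slice -/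
abbrev ob {T : C} (y : FibCat.overCat T ⥤ᵇ 𝒳) : 𝒳.obj := y.obj (Over.mk (𝟙 T))

theorem ob_base {T : C} (y : FibCat.overCat T ⥤ᵇ 𝒳) : 𝒳.p.obj (ob y) = T := y.w_obj (Over.mk (𝟙 T))

/-- the canonical arrow `y.obj (t) ⟶ ob y` -/
abbrev toOb {T T' : C} (y : FibCat.overCat T ⥤ᵇ 𝒳) (t : T' ⟶ T) : y.obj (Over.mk t) ⟶ ob y :=
  y.map (Over.homMk t (by simp) : Over.mk t ⟶ Over.mk (𝟙 T))

theorem toOb_isHomLift {T T' : C} (y : FibCat.overCat T ⥤ᵇ 𝒳) (t : T' ⟶ T) : 𝒳.p.IsHomLift t (toOb y t) := by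
  have : (FibCat.overCat T).p.IsHomLift t (Over.homMk t (by simp) : Over.mk t ⟶ Over.mk (𝟙 T)) :=
    IsHomLift.map (FibCat.overCat T).p (Over.homMk t (by simp) : Over.mk t ⟶ Over.mk (𝟙 T))
  infer_instance

theorem map_homMk_isHomLift {T A B : C} (y : FibCat.overCat T ⥤ᵇ 𝒳) {a : A ⟶ T} {b : B ⟶ T} (g : A ⟶ B) (h : g ≫ b = a) :
    𝒳.p.IsHomLift g (y.map (Over.homMk g h : Over.mk a ⟶ Over.mk b)) := by
  have : (FibCat.overCat T).p.IsHomLift g (Over.homMk g h : Over.mk a ⟶ Over.mk b) :=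
    IsHomLift.map (FibCat.overCat T).p (Over.homMk g h : Over.mk a ⟶ Over.mk b)
  infer_instance

theorem map_homMk_toOb {T A B : C} (y : FibCat.overCat T ⥤ᵇ 𝒳) {a : A ⟶ T} {b : B ⟶ T} (g : A ⟶ B) (h : g ≫ b = a) :
    y.map (Over.homMk g h : Over.mk a ⟶ Over.mk b) ≫ toOb y b = toOb y a := by
  rw [← Functor.map_comp]
  congr 1
  apply Over.OverMorphism.ext
  exact h

/-- **A product of the universal objects represents the 2-fibre product.** -/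
theorem exists_isEquivOver_of_isProd (h𝒳 : FibCat.IsFibGrpd 𝒳.p) {T U : C} (y : FibCat.overCat T ⥤ᵇ 𝒳)
    (x : FibCat.overCat U ⥤ᵇ 𝒳) {w : 𝒳.obj} (p : w ⟶ ob y) (q : w ⟶ ob x) (hw : IsProd p q) :
    ∃ e : FibCat.overCat (𝒳.p.obj w) ⥤ᵇ FibCat.fp y x, FibCat.IsEquivOver e ∧
      BasedFunctor.comp e (FibCat.fpFst y x) = ovMap (𝒳.p.map p ≫ eqToHom (ob_base y)) ∧
      BasedFunctor.comp e (FibCat.fpSnd y x) = ovMap (𝒳.p.map q ≫ eqToHom (ob_base x)) := by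
  set π : 𝒳.p.obj w ⟶ T := 𝒳.p.map p ≫ eqToHom (ob_base y) with hπ
  set φ : 𝒳.p.obj w ⟶ U := 𝒳.p.map q ≫ eqToHom (ob_base x) with hφ
  have hp : 𝒳.p.IsHomLift π p := IsHomLift.of_fac' _ _ _ rfl (ob_base y) (by simp [hπ])
  have hq : 𝒳.p.IsHomLift φ q := IsHomLift.of_fac' _ _ _ rfl (ob_base x) (by simp [hφ])
  have h1 := toOb_isHomLift y π
  have h2 := toOb_isHomLift x φ
  have cp := isStrCart h𝒳 π p hp
  have cq := isStrCart h𝒳 φ q hq
  have c1 := isStrCart h𝒳 π _ h1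
  have c2 := isStrCart h𝒳 φ _ h2
  let α : w ≅ y.obj (Over.mk π) := Functor.IsCartesian.domainUniqueUpToIso 𝒳.p π (toOb y π) p
  let β : w ≅ x.obj (Over.mk φ) := Functor.IsCartesian.domainUniqueUpToIso 𝒳.p φ (toOb x φ) q
  have hα : 𝒳.p.IsHomLift (𝟙 (𝒳.p.obj w)) α.hom := inferInstance
  have hβ : 𝒳.p.IsHomLift (𝟙 (𝒳.p.obj w)) β.hom := inferInstance
  have hα' : 𝒳.p.IsHomLift (𝟙 (𝒳.p.obj w)) α.inv := inferInstance
  have eα : α.hom ≫ toOb y π = p := by simp [α]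
  have eβ : β.hom ≫ toOb x φ = q := by simp [β]
  have eα' : α.inv ≫ p = toOb y π := by rw [← eα, Iso.inv_hom_id_assoc]
  let θ : y.obj (Over.mk π) ≅ x.obj (Over.mk φ) := α.symm ≪≫ β
  have hθ : 𝒳.p.IsHomLift (𝟙 (𝒳.p.obj w)) θ.hom := by
    have : 𝒳.p.IsHomLift (𝟙 (𝒳.p.obj w)) (α.inv ≫ β.hom) := inferInstance
    exact this
  refine exists_isEquivOver y x π φ h𝒳 θ hθ ?_
  intro T' t s θ' hθ'
  let a : y.obj (Over.mk t) ⟶ ob y := toOb y t
  let b : y.obj (Over.mk t) ⟶ ob x := θ'.hom ≫ toOb x s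
  have ha : 𝒳.p.IsHomLift t a := toOb_isHomLift y t
  have hb : 𝒳.p.IsHomLift s b := by
    have := toOb_isHomLift x s
    change 𝒳.p.IsHomLift s (θ'.hom ≫ toOb x s)
    infer_instance
  obtain ⟨c, ⟨hc1, hc2⟩, huniq⟩ := hw _ a b
  have hyt : 𝒳.p.obj (y.obj (Over.mk t)) = T' := y.w_obj (Over.mk t)
  let r : T' ⟶ 𝒳.p.obj w := eqToHom hyt.symm ≫ 𝒳.p.map c
  have hr : 𝒳.p.IsHomLift r c := IsHomLift.of_fac' _ _ _ hyt rfl (by simp [r])
  have hrπ : r ≫ π = t := by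
    have i1 : 𝒳.p.IsHomLift (r ≫ π) (c ≫ p) := inferInstance
    rw [hc1] at i1
    exact lift_unique 𝒳.p _ _ a i1 ha
  have hrφ : r ≫ φ = s := by
    have i1 : 𝒳.p.IsHomLift (r ≫ φ) (c ≫ q) := inferInstance
    rw [hc2] at i1
    exact lift_unique 𝒳.p _ _ b i1 hb
  have key : ∀ (r' : T' ⟶ 𝒳.p.obj w) (h' : r' ≫ π = t),
      (y.map (Over.homMk r' h' : Over.mk t ⟶ Over.mk π) ≫ α.inv) ≫ p = a := by
    intro r' h'
    rw [Category.assoc, eα', map_homMk_toOb]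
  have hcr : y.map (Over.homMk r hrπ : Over.mk t ⟶ Over.mk π) ≫ α.inv = c := by
    apply hom_ext_of_comp h𝒳 p
    · have i1 := map_homMk_isHomLift y r hrπ
      have i2 : 𝒳.p.IsHomLift r (y.map (Over.homMk r hrπ : Over.mk t ⟶ Over.mk π) ≫ α.inv) := inferInstance
      rw [IsHomLift.fac' 𝒳.p r c, IsHomLift.fac' 𝒳.p r (y.map (Over.homMk r hrπ : Over.mk t ⟶ Over.mk π) ≫ α.inv)]
    · rw [key, hc1]
  refine ⟨r, ⟨hrπ, hrφ, ?_⟩, ?_⟩
  · have i1 := map_homMk_isHomLift y r hrπ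
    have i2 := map_homMk_isHomLift x r hrφ
    have i3 : 𝒳.p.IsHomLift r (θ'.hom ≫ x.map (Over.homMk r hrφ : Over.mk s ⟶ Over.mk φ)) := inferInstance
    have i4 : 𝒳.p.IsHomLift r (y.map (Over.homMk r hrπ : Over.mk t ⟶ Over.mk π) ≫ θ.hom) := inferInstance
    apply hom_ext_of_comp h𝒳 (toOb x φ)
    · rw [IsHomLift.fac' 𝒳.p r (θ'.hom ≫ x.map (Over.homMk r hrφ : Over.mk s ⟶ Over.mk φ)),
        IsHomLift.fac' 𝒳.p r (y.map (Over.homMk r hrπ : Over.mk t ⟶ Over.mk π) ≫ θ.hom)]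
    · have e1 : θ.hom ≫ toOb x φ = α.inv ≫ q := by
        change (α.inv ≫ β.hom) ≫ toOb x φ = _
        rw [Category.assoc, eβ]
      have e2 : (y.map (Over.homMk r hrπ : Over.mk t ⟶ Over.mk π) ≫ α.inv) ≫ q = b := by rw [hcr, hc2]
      rw [Category.assoc, map_homMk_toOb, Category.assoc, e1, ← Category.assoc, e2]
  · rintro r' ⟨h1', h2', h3'⟩
    have e0 : c = y.map (Over.homMk r' h1' : Over.mk t ⟶ Over.mk π) ≫ α.inv := by
      refine (huniq _ ⟨key r' h1', ?_⟩).symm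
      have e1 : α.inv ≫ q = θ.hom ≫ toOb x φ := by
        change _ = (α.inv ≫ β.hom) ≫ toOb x φ
        rw [Category.assoc, eβ]
      rw [Category.assoc, e1, ← Category.assoc, ← h3', Category.assoc, map_homMk_toOb]
    have i1 := map_homMk_isHomLift y r' h1'
    have i2 : 𝒳.p.IsHomLift r' c := by
      rw [e0]
      infer_instance
    exact lift_unique 𝒳.p _ _ c i2 hr

end K744.ArtD
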