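import Groth.Agent.AlgSt.K744.ArtD.Assemble

/-!
# Artin's theorem: assembly (node D of helper607)
-/

set_option autoImplicit false

universe w v u

open CategoryTheory CategoryTheory.Limits AlgebraicGeometry Opposite

namespace K744.ArtD

open K607.Artin K735.Fib K735.Fp

/-- **Assembly** (morphisms in `Type (u+1)`). -/
theorem isAlgStack_of_charts (Λ : Type u) [CommRing Λ] [Algebra.FiniteType ℤ Λ]
    (𝒳 : BasedCategory.{u + 1, w} (Over (Spec (CommRingCat.of Λ)))) (h : Axioms 𝒳) (hch : EVCharts 𝒳)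
    (hC : SmChart 𝒳) : AlgSt.IsAlgStack Scheme.fppfPrecoverage 𝒳 := by
  obtain ⟨I, U, x, h1, h2⟩ := exists_family Λ 𝒳 h.isStack.1 h.lp h.sm hch hC
  exact K742.AtlasU.isAlgStack_of_family h.isStack U x h1 h2

/-- **Assembly** (morphisms in `Type u`). -/
theorem isAlgStack₀_of_charts (Λ : Type u) [CommRing Λ] [Algebra.FiniteType ℤ Λ]
    (𝒳 : BasedCategory.{u, w} (Over (Spec (CommRingCat.of Λ)))) (h : Axioms 𝒳) (hch : EVCharts 𝒳)
    (hC : SmChart 𝒳) : AlgSt.IsAlgStack Scheme.fppfPrecoverage 𝒳 := by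
  obtain ⟨I, U, x, h1, h2⟩ := exists_family Λ 𝒳 h.isStack.1 h.lp h.sm hch hC
  exact K742.Atlas0.isAlgStack_of_family h.isStack U x h1 h2

end K744.ArtD
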