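import Groth.Agent.UnramA.MonoEndo
import Mathlib.RingTheory.FiniteType

/-!
# Finite quotient fields of polynomial rings as a small set of representatives of the finite fields
-/

set_option autoImplicit false

universe u

namespace K744.ArtD

/-- Indices for the finite fields over `Λ`. -/
structure FF (Λ : Type u) [CommRing Λ] : Type u where
  n : ℕ
  M : Ideal (MvPolynomial (Fin n) Λ)
  max : M.IsMaximal
  fin : Finite (MvPolynomial (Fin n) Λ ⧸ M)

namespace FF

variable {Λ : Type u} [CommRing Λ] (j : FF Λ)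

/-- The field. -/
abbrev K : Type u := MvPolynomial (Fin j.n) Λ ⧸ j.M

noncomputable instance : Field j.K :=
  have := j.max
  Ideal.Quotient.field j.M

instance : Finite j.K := j.fin

end FF

theorem exists_ff (Λ : Type u) [CommRing Λ] (k : Type u) [Field k] [Algebra Λ k] [Finite k] :
    ∃ j : FF Λ, Nonempty (k ≃ₐ[Λ] j.K) := by
  have h : Algebra.FiniteType Λ k := by
    refine ⟨⟨(Set.toFinite (Set.univ : Set k)).toFinset, ?_⟩⟩
    simp
  obtain ⟨n, f, hf⟩ := Algebra.FiniteType.iff_quotient_mvPolynomial''.1 h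
  have e := Ideal.quotientKerAlgEquivOfSurjective hf
  have hm : (RingHom.ker f).IsMaximal := RingHom.ker_isMaximal_of_surjective f.toRingHom hf
  have hfin : Finite (MvPolynomial (Fin n) Λ ⧸ RingHom.ker f) := Finite.of_equiv k e.symm.toEquiv
  exact ⟨⟨n, RingHom.ker f, hm, hfin⟩, ⟨e.symm⟩⟩

theorem finite_quot (Λ : Type u) [CommRing Λ] [Algebra.FiniteType ℤ Λ] (C : Type u) [CommRing C] [Algebra Λ C]
    [Algebra.FiniteType Λ C] (m : Ideal C) [hm : m.IsMaximal] : Finite (C ⧸ m) := by
  have h1 : Algebra.FiniteType ℤ C := Algebra.FiniteType.trans (S := Λ) inferInstance inferInstance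
  have h2 : Algebra.FiniteType ℤ (C ⧸ m) := Algebra.FiniteType.of_surjective
    (Ideal.Quotient.mkₐ ℤ m) Ideal.Quotient.mk_surjective
  let _ : Field (C ⧸ m) := Ideal.Quotient.field m
  exact @Groth.Agent.UnramA.MonoEndo.finite_of_finiteType_int (C ⧸ m) _ h2

end K744.ArtD
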