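import Groth.Agent.AlgSt.K744.ArtD.Alg
import Groth.Agent.AlgSt.K744.ArtD.Prod
import Groth.Agent.AlgSp.K607.ArtinEV
import Groth.Agent.CurvSt.K742.AtlasMain

/-!
# Artin's theorem: assembly of the local charts

`exists_family`: smooth charts through all objects over finite fields give a `u`-small family of smooth charts
surjective on points.
-/

set_option autoImplicit false
set_option backward.isDefEq.respectTransparency false
set_option backward.isDefEq.respectTransparency.types false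

universe w v u

open CategoryTheory CategoryTheory.Limits AlgebraicGeometry Opposite

namespace K744.ArtD

open K607.Artin K735.Fib K735.Fp

section General

variable {S : Scheme.{u}} {𝒳 : BasedCategory.{v, w} (Over S)}

/-- Arrows and 2-isomorphisms. -/
theorem nonempty_iso_yonF_hom (h𝒳 : FibCat.IsFibGrpd 𝒳.p) {x y : 𝒳.obj} {T U : Over S} (hx : 𝒳.p.obj x = T)
    (hy : 𝒳.p.obj y = U) (f : T ⟶ U) (a : x ⟶ y) (ha : 𝒳.p.IsHomLift f a) :
    Nonempty (yonF h𝒳 x hx ≅ BasedFunctor.comp (AlgSt.overMap f) (yonF h𝒳 y hy)) := by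
  -- the universal object of the left side maps to that of the right side
  let A : (yonF h𝒳 x hx).obj (idObj T) ⟶ (yonF h𝒳 y hy).obj (idObj U) :=
    (yonFIso h𝒳 x hx).hom ≫ a ≫ (yonFIso h𝒳 y hy).inv
  have hv1 := vert_yonFIso h𝒳 x hx
  have hv2 : Vert 𝒳.p (yonFIso h𝒳 y hy).inv := (vert_yonFIso h𝒳 y hy).iso_inv
  let B : (BasedFunctor.comp (AlgSt.overMap f) (yonF h𝒳 y hy)).obj (idObj T) ⟶ (yonF h𝒳 y hy).obj (idObj U) :=
    toOb (yonF h𝒳 y hy) (𝟙 T ≫ f)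
  have hB : 𝒳.p.IsHomLift (𝟙 T ≫ f) B := toOb_isHomLift (yonF h𝒳 y hy) (𝟙 T ≫ f)
  have hb : 𝒳.p.obj ((BasedFunctor.comp (AlgSt.overMap f) (yonF h𝒳 y hy)).obj (idObj T)) = T :=
    (BasedFunctor.comp (AlgSt.overMap f) (yonF h𝒳 y hy)).w_obj (idObj T)
  have hb' : 𝒳.p.obj ((yonF h𝒳 x hx).obj (idObj T)) = T := (yonF h𝒳 x hx).w_obj (idObj T)
  obtain ⟨χ, hχ1, -⟩ := exists_hom h𝒳 B A (eqToHom (hb'.trans hb.symm)) (by
    rw [IsHomLift.fac' 𝒳.p (𝟙 T ≫ f) B]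
    change _ = 𝒳.p.map ((yonFIso h𝒳 x hx).hom ≫ a ≫ (yonFIso h𝒳 y hy).inv)
    rw [Functor.map_comp, Functor.map_comp, hv1.map_eq, hv2.map_eq, IsHomLift.fac' 𝒳.p f a]
    simp)
  exact ⟨(exists_yonIso h𝒳 _ _ χ (vert_of_map_eq _ hχ1)).choose⟩

/-- Arrows and points. -/
theorem ofChart_yonF_hom (h𝒳 : FibCat.IsFibGrpd 𝒳.p) {x y : 𝒳.obj} {T U : Over S} (hx : 𝒳.p.obj x = T)
    (hy : 𝒳.p.obj y = U) (f : T ⟶ U) (a : x ⟶ y) (ha : 𝒳.p.IsHomLift f a) (t : ↥T.left) :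
    AlgSt.Points.ofChart (yonF h𝒳 x hx) t = AlgSt.Points.ofChart (yonF h𝒳 y hy) (f.left t) := by
  obtain ⟨i⟩ := nonempty_iso_yonF_hom h𝒳 hx hy f a ha
  rw [← K735.PtsSp.ofChart_overMap]
  exact K735.PtsSp.ofChart_congr i t

/-- The preimage under any chart of the image of a smooth chart is open. -/
theorem isOpen_preimage_range (h𝒳 : FibCat.IsFibGrpd 𝒳.p) {U T : Over S} {x : FibCat.overCat U ⥤ᵇ 𝒳}
    (hx : AlgSt.RepByAlgSpWith (AlgSp.LocP @Smooth) x) (y : FibCat.overCat T ⥤ᵇ 𝒳) :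
    IsOpen (AlgSt.Points.ofChart y ⁻¹' Set.range (AlgSt.Points.ofChart x)) := by
  rw [← K735.PtsSp.range_map_eq_range_ofChart, ← Set.image_univ]
  obtain ⟨F, e, he, hq⟩ := hx T y
  rw [K735.Top.preimage_image_map h𝒳 (isFibGrpd_overCat U) y e he]
  refine (AlgSp.Points.continuous_ofPt _).isOpen_preimage _
    (K735.Top.isOpenMap_of_locP K735.Top.isOpenMap_of_smooth F.property hq _ ?_)
  rw [Set.preimage_univ]
  exact isOpen_univ

end General

section Main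

/-- Statement of the smoothness of the charts (node C). -/
def SmChart {Λ : Type u} [CommRing Λ] (𝒳 : BasedCategory.{v, w} (Over (Spec (CommRingCat.of Λ)))) : Prop :=
  ∀ (hf : FibCat.IsFibGrpd 𝒳.p) (A : Type u) [CommRing A] [Algebra Λ A] [Algebra.FiniteType Λ A]
    (ξ : 𝒳.obj) (hξ : Ov A ξ) (_ : EV ξ), AlgSt.RepByAlgSpWith (AlgSp.LocP @Smooth) (yonF hf ξ hξ)

/-- In the spectrum of an algebra of finite type over `Λ`, an open set containing the images of all the points with values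
in the fields `FF Λ` is everything. -/
theorem eq_univ_of_ff (Λ : Type u) [CommRing Λ] [Algebra.FiniteType ℤ Λ] (C : Type u) [CommRing C] [Algebra Λ C]
    [Algebra.FiniteType Λ C] (O : Set (PrimeSpectrum C)) (hO : IsOpen O)
    (h : ∀ (j : FF Λ) (g : C →ₐ[Λ] j.K) (t : PrimeSpectrum j.K), PrimeSpectrum.comap g.toRingHom t ∈ O) : O = Set.univ := by
  by_contra hne
  obtain ⟨c, hc⟩ := (Set.ne_univ_iff_exists_notMem O).1 hne
  obtain ⟨m, hm, hcm⟩ := Ideal.exists_le_maximal c.asIdeal c.isPrime.ne_top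
  -- `m` is not in `O`
  have hmO : (⟨m, hm.isPrime⟩ : PrimeSpectrum C) ∉ O := by
    intro hmO
    apply hc
    have hs : c ⤳ (⟨m, hm.isPrime⟩ : PrimeSpectrum C) := (PrimeSpectrum.le_iff_specializes _ _).1 hcm
    exact hs.mem_open hO hmO
  have hfin := finite_quot Λ C m
  let _ : Field (C ⧸ m) := Ideal.Quotient.field m
  obtain ⟨j, ⟨e⟩⟩ := exists_ff Λ (C ⧸ m)
  let g : C →ₐ[Λ] j.K := e.toAlgHom.comp (Ideal.Quotient.mkₐ Λ m)
  let t : PrimeSpectrum j.K := ⊥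
  have ht : PrimeSpectrum.comap g.toRingHom t = (⟨m, hm.isPrime⟩ : PrimeSpectrum C) := by
    apply PrimeSpectrum.ext
    change Ideal.comap g.toRingHom ⊥ = m
    ext r
    rw [Ideal.mem_comap, Ideal.mem_bot]
    change e (Ideal.Quotient.mk m r) = 0 ↔ _
    rw [map_eq_zero_iff e e.injective, Ideal.Quotient.eq_zero_iff_mem]
  exact hmO (ht ▸ h j g t)

variable (Λ : Type u) [CommRing Λ] [Algebra.FiniteType ℤ Λ] (𝒳 : BasedCategory.{v, w} (Over (Spec (CommRingCat.of Λ))))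

/-- **A `u`-small family of smooth charts surjective on points.** -/
theorem exists_family (hf : FibCat.IsFibGrpd 𝒳.p) (lp : LP 𝒳) (sm : SM 𝒳) (hch : EVCharts 𝒳) (hC : SmChart 𝒳) :
    ∃ (I : Type u) (U : I → Over (Spec (CommRingCat.of Λ))) (x : ∀ i, FibCat.overCat (U i) ⥤ᵇ 𝒳),
      (∀ i, AlgSt.RepByAlgSpWith (AlgSp.LocP @Smooth) (x i)) ∧
      ∀ p : AlgSt.Points 𝒳, ∃ (i : I) (t : ↥(U i).left), AlgSt.Points.ofChart (x i) t = p := by
  choose ι x hx using fun (j : FF Λ) => sm j.K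
  let I : Type u := Σ j : FF Λ, {i : ι j // Ov j.K (x j i)}
  choose A i1 i2 i3 γ ξ a ha hEV using fun (i : I) => hch i.1.K (x i.1 i.2.1) i.2.2
  have hξ : ∀ i : I, Ov (A i) (ξ i) := fun i => (ha i).tgt
  refine ⟨I, fun i => sp Λ (A i), fun i => yonF hf (ξ i) (hξ i), fun i => hC hf (A i) (ξ i) (hξ i) (hEV i), ?_⟩
  intro p
  obtain ⟨⟨K, str, τ, hτ⟩, rfl⟩ := AlgSt.Points.mk_surjective p
  -- the `Λ`-algebra structure of `K`
  obtain ⟨ψ, rfl⟩ := Spec.map_surjective str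
  let _ : Algebra Λ K := ψ.hom.toAlgebra
  have hτ' : 𝒳.p.obj τ = sp Λ K := hτ
  obtain ⟨C, j1, j2, j3, φ, y₀, b, hb⟩ := lp K τ hτ'
  have hy₀ : Ov C y₀ := Li.tgt (φ := φ) (a := b) hb
  let Y := yonF hf y₀ hy₀
  have hY : ∀ c : PrimeSpectrum C, ∃ (i : I) (t : ↥(sp Λ (A i)).left),
      AlgSt.Points.ofChart (yonF hf (ξ i) (hξ i)) t = AlgSt.Points.ofChart Y c := by
    let O : Set (PrimeSpectrum C) := ⋃ i : I, AlgSt.Points.ofChart Y ⁻¹' Set.range (AlgSt.Points.ofChart (yonF hf (ξ i) (hξ i)))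
    have hO : IsOpen O := isOpen_iUnion fun i => isOpen_preimage_range hf (hC hf (A i) (ξ i) (hξ i) (hEV i)) Y
    have hOu : O = Set.univ := by
      refine eq_univ_of_ff Λ C O hO ?_
      intro j g t
      obtain ⟨x₁, b₁, hb₁⟩ := Li.exists_lift (hfg := hf) hy₀ g
      obtain ⟨i, e, he⟩ := hx j x₁ hb₁.src
      have hxi : Ov j.K (x j i) := @IsHomLift.codomain_eq _ _ _ _ 𝒳.p _ _ _ _ (𝟙 (sp Λ j.K)) e he
      let i' : I := ⟨j, ⟨i, hxi⟩⟩
      refine Set.mem_iUnion.2 ⟨i', ?_⟩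
      have h1 := ofChart_yonF_hom hf hb₁.src hy₀ (spMap g) b₁ hb₁ t
      have h2 := ofChart_yonF_hom hf hb₁.src hxi (𝟙 _) e he t
      have h3 := ofChart_yonF_hom hf hxi (hξ i') (spMap (γ i')) (a i') (ha i') t
      refine ⟨(spMap (γ i')).left t, ?_⟩
      rw [← h3]
      have h4 : (𝟙 (sp Λ j.K) : sp Λ j.K ⟶ _).left t = t := rfl
      rw [h4] at h2
      rw [← h2, h1]
      rfl
    intro c
    have hc : c ∈ O := hOu ▸ Set.mem_univ c
    obtain ⟨i, hi⟩ := Set.mem_iUnion.1 hc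
    obtain ⟨t, ht⟩ := hi
    exact ⟨i, t, ht⟩
  let t : ↥(sp Λ K).left := (default : PrimeSpectrum K)
  obtain ⟨i, t', ht'⟩ := hY ((spMap φ).left t)
  refine ⟨i, t', ?_⟩
  rw [ht', ← ofChart_yonF_hom hf hτ' hy₀ (spMap φ) b hb t]
  exact K735.Lift.ofChart_yonF hf τ hτ t

end Main

end K744.ArtD
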